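import Cfsg.Agent.Mathieu.M24Actions

/-!
The binary permutation module of `Cfsg.M24`: the action on words, the dot product, tables, and
closures of orbits of code words checked by the kernel.
-/

set_option autoImplicit false

open Cfsg CfsgLib.Mathieu

namespace CfsgLib.GolayModule

/-- A word moved by a permutation of the coordinates. -/
def act (σ : Equiv.Perm GolayPt) (w : GolayPt → ZMod 2) : GolayPt → ZMod 2 :=
  fun p => w (σ.symm p)

theorem act_add (σ : Equiv.Perm GolayPt) (v w : GolayPt → ZMod 2) :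
    act σ (v + w) = act σ v + act σ w := rfl

theorem act_sub (σ : Equiv.Perm GolayPt) (v w : GolayPt → ZMod 2) :
    act σ (v - w) = act σ v - act σ w := rfl

theorem act_zero (σ : Equiv.Perm GolayPt) : act σ 0 = 0 := rfl

theorem act_one (w : GolayPt → ZMod 2) : act 1 w = w := rfl

theorem act_mul (σ τ : Equiv.Perm GolayPt) (w : GolayPt → ZMod 2) :
    act (σ * τ) w = act σ (act τ w) := rfl

theorem act_inv_act (σ : Equiv.Perm GolayPt) (w : GolayPt → ZMod 2) :
    act σ⁻¹ (act σ w) = w := by rw [← act_mul, inv_mul_cancel, act_one]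

theorem act_act_inv (σ : Equiv.Perm GolayPt) (w : GolayPt → ZMod 2) :
    act σ (act σ⁻¹ w) = w := by rw [← act_mul, mul_inv_cancel, act_one]

theorem act_ones (σ : Equiv.Perm GolayPt) : act σ 1 = 1 := rfl

/-- The dot product. -/
def dot (v w : GolayPt → ZMod 2) : ZMod 2 := ∑ p, v p * w p

theorem dot_comm (v w : GolayPt → ZMod 2) : dot v w = dot w v := by
  simp only [dot, mul_comm]

theorem dot_add (v w x : GolayPt → ZMod 2) : dot v (w + x) = dot v w + dot v x := by
  simp only [dot, Pi.add_apply, mul_add, Finset.sum_add_distrib]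

theorem add_dot (v w x : GolayPt → ZMod 2) : dot (v + w) x = dot v x + dot w x := by
  rw [dot_comm, dot_add, dot_comm x, dot_comm x]

theorem dot_zero (v : GolayPt → ZMod 2) : dot v 0 = 0 := by simp [dot]

theorem dot_act (σ : Equiv.Perm GolayPt) (v w : GolayPt → ZMod 2) :
    dot (act σ v) (act σ w) = dot v w :=
  Equiv.sum_comp σ.symm fun p => v p * w p

theorem dot_wordOf (M N : ℕ) : dot (wordOf M) (wordOf N) = (wt (M &&& N) : ZMod 2) := by
  have h : ∀ p, wordOf M p * wordOf N p = if (M &&& N).testBit (idx p) then 1 else 0 := by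
    intro p
    simp only [wordOf, Nat.testBit_and]
    cases M.testBit (idx p) <;> cases N.testBit (idx p) <;> rfl
  rw [dot, Finset.sum_congr rfl fun p _ => h p, Finset.sum_boole, ← card_setOf24]
  rfl

theorem exists_wordOf (w : GolayPt → ZMod 2) : ∃ M < 2 ^ 24, w = wordOf M :=
  ⟨_, maskOf_lt _, eq_wordOf_maskOf w⟩

theorem wordOf_eq_zero_or {M : ℕ} (r : ℕ) (hM : M < 2 ^ 24) (hr : r < 2 ^ 24)
    (h : wordOf M = wordOf r) : M = r :=
  setOf24_inj hM hr (by rw [← support₂_wordOf, h, support₂_wordOf])

theorem act_mem_code {σ : Equiv.Perm GolayPt} (hσ : σ ∈ M24) {w : GolayPt → ZMod 2}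
    (hw : w ∈ golayCode) : act σ w ∈ golayCode := by
  have h1 : support₂ (act σ w) = (support₂ w).image σ := by
    ext p
    simp only [support₂, Finset.mem_filter, Finset.mem_univ, true_and, Finset.mem_image]
    exact ⟨fun h => ⟨σ.symm p, h, σ.apply_symm_apply p⟩, by
      rintro ⟨q, hq, rfl⟩; simpa [act] using hq⟩
  rw [mem_golayCode_iff, h1, ← mem_supports_iff]
  exact setSystemAut_image_mem hσ ⟨w, hw, rfl⟩

theorem act_wordOf {σ : Equiv.Perm GolayPt} {t : ℕ} (h : Rep enc σ t) (M : ℕ) :
    act σ (wordOf M) = wordOf (push t 24 M) := by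
  funext p
  have hs := Finset.ext_iff.1 (image_setOf24 h M) p
  simp only [Finset.mem_image, mem_setOf24] at hs
  have : M.testBit (idx (σ.symm p)) = (push t 24 M).testBit (idx p) := by
    rw [Bool.eq_iff_iff]
    exact ⟨fun hh => hs.1 ⟨_, hh, σ.apply_symm_apply p⟩, fun hh => by
      obtain ⟨q, hq, rfl⟩ := hs.2 hh
      rwa [σ.symm_apply_apply]⟩
  simp only [act, wordOf, this]

/-- A table is that of a member of `M24`. -/
def tableIn (t : ℕ) : Bool :=
  preservesCode t && allBelow 24 (fun i => Nat.blt (app t i) 24) &&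
    allBelow 24 (fun i => allBelow 24 fun j => i == j || app t i != app t j)

theorem exists_of_table {t : ℕ} (h : tableIn t = true) : ∃ σ ∈ M24, Rep enc σ t := by
  simp only [tableIn, Bool.and_eq_true, allBelow_iff, Nat.blt_eq, Bool.or_eq_true, beq_iff_eq,
    bne_iff_ne] at h
  obtain ⟨⟨hp, hlt⟩, hinj⟩ := h
  let f : GolayPt → GolayPt := fun p => pt (app t (idx p))
  have hf : Function.Injective f := by
    intro p q e
    have e' := congrArg idx e
    simp only [f, idx_pt (hlt _ (idx_lt p)), idx_pt (hlt _ (idx_lt q))] at e'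
    exact idx_injective ((hinj _ (idx_lt p) _ (idx_lt q)).resolve_right (not_not.2 e'))
  let σ : Equiv.Perm GolayPt := Equiv.ofBijective f hf.bijective_of_finite
  have hrep : Rep enc σ t := fun p => (idx_pt (hlt _ (idx_lt p))).symm
  exact ⟨σ, mem_M24_of_table hrep hp, hrep⟩

theorem codeRows_orth : ∀ r ∈ codeRows, ∀ s ∈ codeRows, wt (r &&& s) % 2 = 0 := by decide +kernel

theorem wordOf_xorSel (S : (GolayPt → ZMod 2) → Prop) (h0 : S 0)
    (hadd : ∀ a b, S a → S b → S (a + b)) (l : List ℕ) (m : ℕ) (h : ∀ r ∈ l, S (wordOf r)) :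
    S (wordOf (xorSel l m)) :=
  xorSel_induction (fun M => S (wordOf M)) (by rw [wordOf_zero]; exact h0)
    (fun a b ha hb => by rw [wordOf_xor]; exact hadd _ _ ha hb) l m h

theorem code_induction (S : (GolayPt → ZMod 2) → Prop) (h0 : S 0)
    (hadd : ∀ a b, S a → S b → S (a + b)) (h : ∀ r ∈ codeRows, S (wordOf r))
    {w : GolayPt → ZMod 2} (hw : w ∈ golayCode) : S w := by
  obtain ⟨M, hM, rfl⟩ := exists_isCode_of_mem hw
  rw [← isCode_iff.1 hM]
  exact wordOf_xorSel S h0 hadd _ _ h

theorem wordOf_mem_of_row {r : ℕ} (hr : r ∈ codeRows) : wordOf r ∈ golayCode :=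
  wordOf_mem_of_isCode ((by decide +kernel : ∀ r ∈ codeRows, isCode r = true) r hr)

/-- The code is its own orthogonal. -/
theorem mem_code_iff_orth (w : GolayPt → ZMod 2) :
    w ∈ golayCode ↔ ∀ c ∈ golayCode, dot w c = 0 := by
  constructor
  · intro hw c hc
    refine code_induction (fun x => dot w x = 0) (dot_zero _)
      (fun a b ha hb => by rw [dot_add, ha, hb, add_zero]) (fun s hs => ?_) hc
    refine code_induction (fun x => dot x (wordOf s) = 0) (by simp [dot])
      (fun a b ha hb => by rw [add_dot, ha, hb, add_zero]) (fun r hr => ?_) hw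
    rw [dot_wordOf, ← Nat.mod_add_div (wt (r &&& s)) 2, codeRows_orth r hr s hs]
    simp [CharTwo.two_eq_zero]
  · intro h
    obtain ⟨M, hM, rfl⟩ := exists_wordOf w
    set H := M ^^^ codeMask M with hH
    have hHlt : H < 2 ^ 24 := Nat.xor_lt_two_pow hM (xorSel_lt _ _ codeRows_lt)
    have horth : ∀ r ∈ codeRows, wt (r &&& H) % 2 = 0 := by
      intro r hr
      have hc := wordOf_mem_of_row hr
      have h1 : dot (wordOf (codeMask M)) (wordOf r) = 0 := by
        refine wordOf_xorSel (fun x => dot x (wordOf r) = 0) (by simp [dot])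
          (fun a b ha hb => by rw [add_dot, ha, hb, add_zero]) codeRows M (fun s hs => ?_)
        rw [dot_wordOf, ← Nat.mod_add_div (wt (s &&& r)) 2, codeRows_orth s hs r hr]
        simp [CharTwo.two_eq_zero]
      have : (wt (r &&& H) : ZMod 2) = 0 := by
        rw [← dot_wordOf, dot_comm, hH, wordOf_xor, add_dot, h _ hc, h1, add_zero]
      rwa [ZMod.natCast_eq_zero_iff_even, Nat.even_iff] at this
    have hlow : H % 4096 = 0 := by
      have key : (List.range 4096).all (fun m => codeMask m % 4096 == m) = true := by decide +kernel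
      have h1 := List.all_eq_true.1 key (M % 4096) (List.mem_range.2 (Nat.mod_lt _ (by norm_num)))
      have h2 : codeMask (M % 2 ^ 12) = codeMask M := xorSel_mod codeRows M
      rw [beq_iff_eq, show (4096 : ℕ) = 2 ^ 12 by norm_num, h2] at h1
      rw [hH, show (4096 : ℕ) = 2 ^ 12 by norm_num, Nat.xor_mod_two_pow, h1, Nat.xor_self]
    have key : (List.range 4096).all (fun k =>
        k == 0 || codeRows.any (fun r => wt (r &&& (k * 4096)) % 2 == 1)) = true := by
      decide +kernel
    have h3 := List.all_eq_true.1 key (H / 4096) (List.mem_range.2 (by omega))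
    rw [show H / 4096 * 4096 = H by omega] at h3
    simp only [Bool.or_eq_true, beq_iff_eq, List.any_eq_true] at h3
    rcases h3 with h0 | ⟨r, hr, hodd⟩
    · have : H = 0 := by omega
      exact wordOf_mem_of_isCode (isCode_iff.2 (Nat.xor_eq_zero_iff.1 this).symm)
    · have := horth r hr; omega

/-! ### Transitivity on dodecads -/

/-- Tables of two members of `M24` fixing the octad with mask `1445088`. -/
def octTables : List ℕ :=
  [74714047853228484690993753731767533306595975440325087236,
    74709542083888491017939528956546545732647075201736905481]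

/-- The octads meeting the octad `1445088` in two points, with an earlier entry and a generator
leading to each. -/
def meetTwo : List (ℕ × ℕ × ℕ) := [(13062145, 0, 0), (5279, 0, 0), (12849992, 0, 1), (9537812, 1, 0), (10021376, 1, 1), (4755660, 2, 0), (8663097, 2, 1), (11272490, 3, 0), (180636, 3, 1), (6570537, 4, 0), (6488205, 4, 1), (10525252, 5, 0), (8484900, 5, 1), (10790408, 6, 1), (762504, 7, 0), (861210, 7, 1), (11046145, 8, 0), (4253780, 8, 1), (4370577, 9, 0), (4470275, 9, 1), (8436754, 10, 0), (31554, 10, 1), (14688364, 11, 0), (8536111, 11, 1), (14828808, 12, 1), (7397512, 13, 0), (3416079, 13, 1), (6344194, 14, 0), (2173253, 14, 1), (1164162, 15, 0), (4038912, 15, 1), (3678776, 16, 0), (1245726, 16, 1), (10506593, 17, 0), (6475812, 17, 1), (2120980, 18, 0), (5329044, 19, 0), (12325377, 19, 1), (3227948, 20, 0), (12222476, 20, 1), (4800613, 21, 0), (15335473, 21, 1), (8581192, 22, 0), (2126890, 22, 1), (8619033, 23, 0), (4744776, 23, 1), (1618953, 24, 0), (5255258, 24, 1), (2422785, 25, 0), (6305926,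 25, 1), (8773776, 26, 0), (2908802, 26, 1), (7417889, 27, 0), (5902343, 27, 1), (8937586, 28, 0), (2245426, 28, 1), (7145475, 29, 0), (4721045, 29, 1), (2425238, 30, 1), (4645632, 31, 0), (2204803, 31, 1), (12944642, 32, 0), (582081, 32, 1), (663645, 33, 0), (12584506, 33, 1), (10630149, 34, 0), (12604486, 34, 1), (9969957, 35, 0), (13811730, 35, 1), (8657159, 36, 0), (12638592, 36, 1), (4465308, 37, 0), (8716939, 37, 1), (9347075, 38, 0), (4220306, 38, 1), (90318, 39, 1), (8524371, 40, 0), (4282144, 40, 1), (145176, 41, 0), (104010, 41, 1), (2147405, 42, 0), (1302533, 43, 0), (16262146, 43, 1), (3179802, 44, 0), (1090380, 44, 1), (5296705, 45, 0), (3457556, 46, 0), (11608708, 46, 1), (381252, 47, 0), (11055264, 47, 1), (2121909, 48, 0), (15073798, 48, 1), (11163650, 49, 1), (2115979, 50, 0), (6588684, 50, 1), (4287105, 51, 0), (421910, 52, 0), (10491778, 52, 1), (8721940, 53, 0), (8999616, 53, 1), (213833, 54, 0), (6915112, 54, 1), (4924673, 55, 0), (4752467, 55, 1), (78514, 56, 0), (987906, 56, 1), (8919856,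 57, 0), (252432, 57, 1), (8989058, 58, 0), (837906, 58, 1), (6837377, 59, 0), (6557781, 59, 1), (3237906, 60, 0), (3672838, 60, 1), (3739786, 61, 0), (1839388, 61, 1), (2640465, 62, 0), (6359604, 62, 1), (8439632, 63, 0), (2220640, 63, 1), (5476616, 64, 0), (9462812, 65, 0), (11551306, 65, 1), (9506893, 66, 0), (14176296, 66, 1), (9323032, 67, 0), (2180760, 67, 1), (2430217, 68, 0), (8978620, 69, 0), (2627629, 70, 0), (12720156, 70, 1), (4294810, 72, 0), (797449, 72, 1), (2949708, 73, 1), (1661185, 74, 0), (7903248, 74, 1), (8505411, 75, 0), (6842656, 75, 1), (4261212, 76, 0), (8946281, 76, 1), (13636881, 77, 1), (5817604, 78, 0), (11575377, 78, 1), (7438406, 79, 0), (5268006, 80, 1), (10765331, 81, 0), (6308804, 81, 1), (1405448, 82, 0), (1613974, 83, 1), (15515712, 84, 0), (12587685, 85, 1), (14950785, 86, 0), (4505735, 86, 1), (12871690, 87, 0), (11010247, 88, 0), (12861748, 88, 1), (2255372, 89, 0), (10554382, 89, 1), (8546577, 90, 0), (12661896, 91, 0), (806987, 91, 1), (75309, 92, 0), (13303882, 92, 1),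 (632881, 93, 0), (4860434, 93, 1), (4216883, 95, 0), (6429441, 95, 1), (8471941, 96, 0), (5842956, 97, 0), (9963547, 97, 1), (13631886, 98, 0), (9748745, 98, 1), (4196943, 99, 0), (12650793, 99, 1), (4203377, 100, 1), (3322370, 101, 0), (1127686, 101, 1), (1594898, 102, 0), (3216208, 102, 1), (1675812, 103, 1), (4409606, 104, 0), (4785798, 105, 0), (9240913, 105, 1), (4850476, 106, 0), (6292775, 107, 0), (12747077, 107, 1), (608810, 108, 0), (2820376, 108, 1), (2687905, 109, 0), (5210132, 109, 1), (1063445, 110, 0), (13703682, 110, 1), (8401364, 111, 0), (8704546, 111, 1), (352547, 112, 0), (6979970, 112, 1), (13443616, 113, 0), (737427, 113, 1), (371206, 114, 0), (9208708, 115, 0), (4424227, 116, 1), (12726562, 117, 0), (185603, 117, 1), (7864649, 118, 0), (5275709, 118, 1), (6447171, 119, 0), (2921478, 120, 0), (4563017, 122, 0), (4726955, 122, 1), (8683614, 123, 0), (8414120, 123, 1), (430605, 124, 0), (4229001, 125, 0), (5286147, 126, 0), (9708306, 127, 1), (8555274, 128, 0), (126216, 128, 1), (8561204,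 129, 0), (8611330, 129, 1), (8426796, 130, 0), (2201890, 131, 0), (702724, 131, 1), (4768432, 132, 0), (2564625, 132, 1), (12624578, 133, 0), (786999, 134, 0), (12780432, 134, 1), (2372388, 135, 0), (8622214, 135, 1), (2162811, 136, 0), (684577, 137, 0), (6493202, 137, 1), (9998658, 138, 0), (1110320, 138, 1), (6455896, 139, 0), (9474712, 140, 1), (2384216, 142, 0), (2130606, 142, 1), (10825794, 143, 0), (545190, 143, 1), (1122713, 145, 0), (6062602, 145, 1), (13121601, 146, 0), (10832640, 148, 0), (2738308, 148, 1), (2110153, 149, 0), (4526126, 149, 1), (8412681, 150, 1), (555160, 151, 0), (2365978, 151, 1), (10557585, 152, 0), (5003780, 152, 1), (118953, 153, 0), (7221256, 153, 1), (8464984, 154, 0), (9048457, 155, 0), (4510744, 155, 1), (12641313, 156, 0), (9543722, 157, 0), (1728778, 157, 1), (542009, 158, 0), (1103886, 159, 0), (11548936, 159, 1), (99029, 160, 0), (3172097, 161, 1), (602472, 162, 1), (2328324, 163, 1), (2854977, 164, 1), (201013, 165, 0), (13276672, 165, 1), (4731956, 166, 0), (5262104,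 167, 1), (2322816, 168, 1), (361272, 169, 0), (9279496, 170, 0), (2916505, 171, 0), (12685424, 172, 0), (692282, 173, 0), (4870480, 174, 0), (2135601, 174, 1), (6644740, 175, 0), (10305542, 176, 0), (12075408, 176, 1), (5571333, 177, 0), (14254209, 177, 1), (4989254, 178, 0), (8421811, 178, 1), (8983587, 180, 0), (525274, 182, 0), (95313, 183, 1), (10170384, 184, 0), (11015256, 185, 0), (21116, 185, 1), (567074, 187, 0), (237906, 187, 1), (69395, 188, 1), (10666625, 190, 1), (8931660, 192, 0), (10537016, 192, 1), (13370381, 193, 1), (7079696, 194, 1), (2702848, 195, 0), (596054, 195, 1), (4346506, 196, 0), (4819776, 197, 1), (14762146, 198, 0), (3031301, 198, 1), (15207048, 199, 0), (346141, 199, 1), (530245, 200, 1), (742412, 201, 0), (3736597, 202, 0), (14156372, 202, 1), (832080, 203, 0), (10916112, 204, 0), (63108, 204, 1), (6820450, 205, 1), (2150610, 207, 0), (10584520, 209, 0), (843820, 209, 1), (4900873, 210, 0), (6302745, 210, 1), (14714004, 211, 0), (8675909, 211, 1), (2969648, 213, 0), (2757268,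 213, 1), (5063048, 214, 0), (3719203, 216, 0), (7479572, 216, 1), (5325835, 218, 0), (2826278, 220, 0), (9045270, 220, 1), (11028004, 221, 0), (10698836, 221, 1), (4299781, 222, 1), (2392899, 223, 1), (6379592, 224, 0), (902657, 225, 1), (4726026, 226, 0), (39257, 226, 1), (13262980, 227, 0), (4343317, 230, 0), (14747201, 230, 1), (6337856, 234, 0), (45159, 234, 1), (8431757, 235, 1), (6594610, 236, 1), (14919680, 237, 0), (551943, 237, 1), (9112069, 239, 0), (13192208, 239, 1), (2141072, 240, 1), (6656640, 241, 0), (864389, 241, 1), (10687016, 242, 1), (4587803, 243, 1), (10496547, 244, 0), (9204992, 246, 1), (13771273, 247, 1), (52005, 248, 0), (4301220, 249, 0), (10558, 250, 0), (2263063, 252, 0), (12594948, 252, 1), (4243818, 254, 0), (2269481, 254, 1), (560668, 255, 0), (3182981, 256, 0), (13938692, 256, 1), (3297305, 257, 0), (7345676, 257, 1), (2605066, 258, 0), (2631052, 258, 1), (6889680, 259, 1), (1737489, 260, 0), (5350928, 260, 1), (10846245, 261, 0), (10625178, 262, 1), (14682450, 263, 0), (6053905,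 264, 0), (7340691, 264, 1), (705094, 265, 0), (10560816, 265, 1), (1065303, 266, 1), (2106966, 267, 0), (8455014, 267, 1), (9589508, 270, 0), (11654144, 270, 1), (5017889, 271, 0), (304405, 273, 1), (8855820, 274, 1), (2232654, 276, 0), (9020484, 277, 1), (9471495, 279, 1), (9465987, 280, 0), (7622914, 280, 1), (13373586, 283, 0), (283537, 283, 1), (72588, 284, 1), (10028808, 287, 1), (15762208, 289, 1), (280334, 290, 0), (8077824, 293, 0), (2704706, 294, 0), (2654580, 294, 1), (5833010, 295, 0), (4415544, 297, 1), (4367374, 298, 1), (5780352, 300, 0), (1413139, 300, 1), (11731203, 301, 1), (9158944, 302, 1), (210955, 305, 0), (8922769, 306, 0), (4538962, 306, 1), (4241960, 307, 0), (9519665, 309, 1), (13721920, 310, 1), (15747077, 315, 0), (4403780, 316, 0), (13142054, 317, 1), (2664522, 318, 0), (12599513, 323, 0), (140167, 324, 0), (563843, 326, 0), (4536592, 326, 1), (1687640, 331, 1), (8398155, 333, 0), (11538486, 334, 0), (1053483, 342, 1), (3698756, 343, 0), (8407702, 353, 0), (628112, 355, 0), (2754059,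 356, 1), (1589901, 357, 0), (16056344, 357, 1), (2810896, 361, 1), (11282452, 367, 0), (10768524, 368, 0), (8963210, 390, 0), (12880401, 397, 1), (4264387, 402, 1), (1647171, 403, 0), (11150144, 404, 0), (115766, 404, 1), (3246601, 413, 1), (6295992, 417, 1), (307594, 435, 0)]

/-- The checks of the list `meetTwo`. -/
def meetTwoOK : Bool :=
  allBelow 448 fun i => i == 0 ||
    (Nat.blt (meetTwo.getD i (0, 0, 0)).2.1 i && Nat.blt (meetTwo.getD i (0, 0, 0)).2.2 2 &&
      push (octTables.getD (meetTwo.getD i (0, 0, 0)).2.2 0) 24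
          (meetTwo.getD (meetTwo.getD i (0, 0, 0)).2.1 (0, 0, 0)).1
        == (meetTwo.getD i (0, 0, 0)).1)

theorem meetTwo_ok : meetTwoOK = true := by decide +kernel

theorem meetTwo_complete :
    allBelow 4096 (fun m => wt (codeMask m) != 8 || wt (codeMask m &&& 1445088) != 2 ||
      meetTwo.any (fun e => e.1 == codeMask m)) = true := by decide +kernel

/-- A dodecad used as a representative. -/
def dodecadRep : ℕ := 13720801

theorem octTables_in : ∀ t ∈ octTables, tableIn t = true ∧ push t 24 1445088 = 1445088 := by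
  decide +kernel

theorem meetTwo_orbit : ∀ i < 448, ∃ σ ∈ M24, act σ (wordOf 1445088) = wordOf 1445088 ∧
    act σ (wordOf 13062145) = wordOf (meetTwo.getD i (0, 0, 0)).1 := by
  intro i
  induction i using Nat.strong_induction_on with
  | _ i ih =>
    intro hi
    have h := allBelow_iff.1 meetTwo_ok i hi
    simp only [Bool.or_eq_true, Bool.and_eq_true, beq_iff_eq, Nat.blt_eq] at h
    rcases h with rfl | ⟨⟨hp, hg⟩, he⟩
    · exact ⟨1, one_mem _, rfl, rfl⟩
    · obtain ⟨σ, hσ, h1, h2⟩ := ih _ hp (by omega)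
      have hmem : octTables.getD (meetTwo.getD i (0, 0, 0)).2.2 0 ∈ octTables := by
        have : ∀ k < 2, octTables.getD k 0 ∈ octTables := by decide +kernel
        exact this _ hg
      obtain ⟨ht, hfix⟩ := octTables_in _ hmem
      obtain ⟨τ, hτ, hrep⟩ := exists_of_table ht
      refine ⟨τ * σ, mul_mem hτ hσ, ?_, ?_⟩
      · rw [act_mul, h1, act_wordOf hrep, hfix]
      · rw [act_mul, h2, act_wordOf hrep, he]

theorem act_wordOf_code {σ : Equiv.Perm GolayPt} (hσ : σ ∈ M24) {M : ℕ} (hM : isCode M = true) :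
    ∃ N, isCode N = true ∧ wt N = wt M ∧ act σ (wordOf M) = wordOf N ∧
      (setOf24 M).image σ = setOf24 N := by
  obtain ⟨N, hN, he⟩ := exists_isCode_of_mem (act_mem_code hσ (wordOf_mem_of_isCode hM))
  have hs : (setOf24 M).image σ = setOf24 N := by
    have := congrArg support₂ he
    rw [support₂_wordOf] at this
    rw [← this]
    ext p
    simp only [Finset.mem_image, mem_setOf24, support₂, Finset.mem_filter, Finset.mem_univ,
      true_and, act, wordOf]
    constructor
    · rintro ⟨q, hq, rfl⟩; simp [hq]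
    · intro h
      exact ⟨σ.symm p, by by_contra hh; simp [hh] at h, σ.apply_symm_apply p⟩
  refine ⟨N, hN, ?_, he, hs⟩
  rw [← card_setOf24, ← hs, Finset.card_image_of_injective _ σ.injective, card_setOf24]

theorem octad_move {M : ℕ} (hM : isCode M = true) (h : wt M = 8) :
    ∃ σ ∈ M24, act σ (wordOf 1445088) = wordOf M := by
  have ho : setOf24 1445088 ∈ octads :=
    setOf24_mem_wordsOfWeight (by decide +kernel) (by decide +kernel)
  obtain ⟨σ, hσ, he⟩ := M24_octad_transitive ho (setOf24_mem_wordsOfWeight hM h)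
  obtain ⟨N, hN, -, hact, himg⟩ := act_wordOf_code hσ (show isCode 1445088 = true by decide +kernel)
  exact ⟨σ, hσ, by rw [hact, setOf24_injOn_code hN hM (himg.symm.trans he)]⟩

/-- Every dodecad is the sum of two octads meeting in two points. -/
theorem dodecad_eq_sum {M : ℕ} (hM : isCode M = true) (h : wt M = 12) :
    ∃ A B, isCode A = true ∧ isCode B = true ∧ wt A = 8 ∧ wt B = 8 ∧ wt (A &&& B) = 2 ∧
      M = A ^^^ B := by
  have hcard : 5 ≤ (setOf24 M).card := by rw [card_setOf24, h]; norm_num
  obtain ⟨s, hs, hs5⟩ := Finset.exists_subset_card_eq hcard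
  obtain ⟨o, ⟨ho, hso⟩, -⟩ := octads_isSteinerSystem.2 s hs5
  obtain ⟨hA, hA8⟩ := (mem_wordsOfWeight_iff o 8).1 ho
  have h5 : 5 ≤ wt (maskOf o &&& M) := by
    rw [← card_setOf24, setOf24_and, setOf24_maskOf, ← hs5]
    exact Finset.card_le_card (Finset.subset_inter hso hs)
  have hB := isCode_xor hA hM
  have hsum : ∀ X Y, wt (X ^^^ Y) + 2 * wt (X &&& Y) = wt X + wt Y := by
    intro X Y
    rw [← card_setOf24, ← card_setOf24, ← card_setOf24, ← card_setOf24, setOf24_xor, setOf24_and]
    exact card_symmDiff_add _ _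
  have hle : wt (maskOf o &&& M) ≤ 8 := by
    rw [← hA8, ← card_setOf24, ← card_setOf24, setOf24_and]
    exact Finset.card_le_card Finset.inter_subset_left
  have hb8 : wt (maskOf o ^^^ M) = 8 := by
    have := hsum (maskOf o) M
    rcases weight_cases hB with hw | hw | hw | hw | hw
    · have h0 := wt_eq_zero hB hw
      rw [Nat.xor_eq_zero_iff.1 h0] at hA8
      omega
    all_goals omega
  refine ⟨maskOf o, maskOf o ^^^ M, hA, hB, hA8, hb8, ?_, ?_⟩
  · have := hsum (maskOf o) (maskOf o ^^^ M)
    rw [← Nat.xor_assoc, Nat.xor_self, Nat.zero_xor] at this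
    omega
  · rw [← Nat.xor_assoc, Nat.xor_self, Nat.zero_xor]

attribute [local irreducible] wt codeMask isCode in
theorem dodecad_transitive {M : ℕ} (hM : isCode M = true) (h : wt M = 12) :
    ∃ σ ∈ M24, act σ (wordOf dodecadRep) = wordOf M := by
  obtain ⟨A, B, hA, hB, hA8, hB8, hAB, rfl⟩ := dodecad_eq_sum hM h
  obtain ⟨g, hg, hgA⟩ := octad_move hA hA8
  obtain ⟨B', hB', hB'8, hgB, himg⟩ := act_wordOf_code (inv_mem hg) hB
  obtain ⟨A', hA', hA'8, hgA', himgA⟩ := act_wordOf_code (inv_mem hg) hA
  have hAeq : A' = 1445088 := by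
    refine wordOf_eq_zero_or 1445088 (isCode_lt hA') (by norm_num) ?_
    rw [← hgA', ← hgA, act_inv_act]
  subst hAeq
  have hmeet : wt (B' &&& 1445088) = 2 := by
    rw [← card_setOf24, setOf24_and, ← himg, ← himgA, ← Finset.image_inter _ _ g⁻¹.injective,
      Finset.card_image_of_injective _ g⁻¹.injective, ← setOf24_and, card_setOf24]
    exact (congrArg wt (Nat.and_comm B A)).trans hAB
  obtain ⟨m, hm, rfl⟩ := exists_codeMask hB'
  have hc := allBelow_iff.1 meetTwo_complete m hm
  simp only [Bool.or_eq_true, bne_iff_ne, ne_eq, List.any_eq_true, beq_iff_eq] at hc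
  rcases hc with (hc | hc) | ⟨e, he, hem⟩
  · omega
  · omega
  obtain ⟨i, hi, rfl⟩ := List.getElem_of_mem he
  have hlen : meetTwo.length = 448 := by decide +kernel
  obtain ⟨σ, hσ, h1, h2⟩ := meetTwo_orbit i (hlen ▸ hi)
  rw [List.getD_eq_getElem _ _ hi, hem] at h2
  refine ⟨g * σ, mul_mem hg hσ, ?_⟩
  have hd : dodecadRep = 1445088 ^^^ 13062145 := by decide
  rw [hd, wordOf_xor, act_add, act_mul, act_mul, h1, h2, hgA, ← hgB, act_act_inv, wordOf_xor]

end CfsgLib.GolayModule
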